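import Cfsg.Agent.Steiner.Count

/-!
Intersection numbers of Steiner systems.
-/

set_option autoImplicit false

namespace Cfsg.Agent.SteinerInter

open Cfsg.Agent.SteinerCount
open scoped symmDiff

variable {α : Type*} [Fintype α] [DecidableEq α]

/-- Counting pairs of a `j`-subset of `S` and a block through it. -/
theorem sum_choose_inter {t k : ℕ} {B : Set (Finset α)} (hB : Cfsg.IsSteinerSystem t k B)
    (S : Finset α) {j l : ℕ} (hj : j ≤ t)
    (hl : l * (k - j).choose (t - j) = (Fintype.card α - j).choose (t - j))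
    (hpos : 0 < (k - j).choose (t - j)) :
    ∑ c ∈ blocks B, (S ∩ c).card.choose j = S.card.choose j * l := by
  have h1 : ∀ c ∈ blocks B, (S ∩ c).card.choose j =
      ((S.powersetCard j).filter fun s => s ⊆ c).card := fun c _ => by
    rw [← Finset.card_powersetCard]
    congr 1
    ext s
    simp only [Finset.mem_powersetCard, Finset.mem_filter, Finset.subset_inter_iff]
    tauto
  rw [Finset.sum_congr rfl h1, Finset.sum_congr rfl fun c _ => Finset.card_filter _ _,
    Finset.sum_comm]
  have h2 : ∀ s ∈ S.powersetCard j, (∑ c ∈ blocks B, if s ⊆ c then 1 else 0) = l := by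
    intro s hs
    rw [← Finset.card_filter]
    have hc := (Finset.mem_powersetCard.mp hs).2
    have := blocks_through t k hB s (hc ▸ hj)
    rw [hc, ← hl] at this
    exact Nat.eq_of_mul_eq_mul_right hpos this
  rw [Finset.sum_congr rfl h2, Finset.sum_const, Finset.card_powersetCard, smul_eq_mul]

theorem block_card_inter_lt {t k : ℕ} {B : Set (Finset α)} (hB : Cfsg.IsSteinerSystem t k B)
    {b c : Finset α} (hb : b ∈ B) (hc : c ∈ B) (hbc : b ≠ c) : (b ∩ c).card < t := by
  by_contra h
  obtain ⟨s, hs, hsc⟩ := Finset.exists_subset_card_eq (not_lt.mp h)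
  rw [Finset.subset_inter_iff] at hs
  obtain ⟨d, -, hu⟩ := hB.2 s hsc
  exact hbc ((hu b ⟨hb, hs.1⟩).trans (hu c ⟨hc, hs.2⟩).symm)

/-- The number of other blocks meeting `b` in `i` points. -/
noncomputable def interCount (B : Set (Finset α)) (b : Finset α) (i : ℕ) : ℕ :=
  (((blocks B).erase b).filter fun c => (b ∩ c).card = i).card

theorem sum_interCount {t k : ℕ} {B : Set (Finset α)} (hB : Cfsg.IsSteinerSystem t k B)
    {b : Finset α} (hb : b ∈ B) {j l : ℕ} (hj : j ≤ t)
    (hl : l * (k - j).choose (t - j) = (Fintype.card α - j).choose (t - j))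
    (hpos : 0 < (k - j).choose (t - j)) :
    (∑ i ∈ Finset.range t, interCount B b i * i.choose j) + k.choose j = k.choose j * l := by
  have h := sum_choose_inter hB b hj hl hpos
  rw [hB.1 b hb, ← Finset.add_sum_erase _ _ (mem_blocks.mpr hb), Finset.inter_self,
    hB.1 b hb] at h
  rw [← h, add_comm]
  congr 1
  rw [← Finset.sum_fiberwise_of_maps_to' (g := fun c => (b ∩ c).card) (t := Finset.range t)
    (fun c hc => ?_) (fun i => i.choose j)]
  · exact Finset.sum_congr rfl fun i _ => by rw [Finset.sum_const, smul_eq_mul]; rfl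
  · rw [Finset.mem_erase] at hc
    exact Finset.mem_range.mpr (block_card_inter_lt hB hb (mem_blocks.mp hc.2) hc.1.symm)

theorem interCount_pos {B : Set (Finset α)} {b c : Finset α} (hc : c ∈ B) (hbc : b ≠ c) :
    0 < interCount B b (b ∩ c).card :=
  Finset.card_pos.mpr ⟨c, Finset.mem_filter.mpr
    ⟨Finset.mem_erase.mpr ⟨hbc.symm, mem_blocks.mpr hc⟩, rfl⟩⟩

theorem interCount_5_8_24 (hα : Fintype.card α = 24) {B : Set (Finset α)}
    (hB : Cfsg.IsSteinerSystem 5 8 B) {b : Finset α} (hb : b ∈ B) :
    interCount B b 0 = 30 ∧ interCount B b 1 = 0 ∧ interCount B b 2 = 448 ∧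
      interCount B b 3 = 0 ∧ interCount B b 4 = 280 := by
  have e0 := sum_interCount hB hb (j := 0) (l := 759) (by norm_num) (by rw [hα]; decide) (by decide)
  have e1 := sum_interCount hB hb (j := 1) (l := 253) (by norm_num) (by rw [hα]; decide) (by decide)
  have e2 := sum_interCount hB hb (j := 2) (l := 77) (by norm_num) (by rw [hα]; decide) (by decide)
  have e3 := sum_interCount hB hb (j := 3) (l := 21) (by norm_num) (by rw [hα]; decide) (by decide)
  have e4 := sum_interCount hB hb (j := 4) (l := 5) (by norm_num) (by rw [hα]; decide) (by decide)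
  simp only [Finset.sum_range_succ, Finset.sum_range_zero, Nat.choose] at e0 e1 e2 e3 e4
  omega

theorem inter_5_8_24 (hα : Fintype.card α = 24) {B : Set (Finset α)}
    (hB : Cfsg.IsSteinerSystem 5 8 B) {b c : Finset α} (hb : b ∈ B) (hc : c ∈ B) (hbc : b ≠ c) :
    (b ∩ c).card = 0 ∨ (b ∩ c).card = 2 ∨ (b ∩ c).card = 4 := by
  obtain ⟨-, h1, -, h3, -⟩ := interCount_5_8_24 hα hB hb
  have hlt := block_card_inter_lt hB hb hc hbc
  have hp := interCount_pos (B := B) hc hbc
  interval_cases h : (b ∩ c).card <;> omega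

theorem inter_4_7_23 (hα : Fintype.card α = 23) {B : Set (Finset α)}
    (hB : Cfsg.IsSteinerSystem 4 7 B) {b c : Finset α} (hb : b ∈ B) (hc : c ∈ B) (hbc : b ≠ c) :
    (b ∩ c).card = 1 ∨ (b ∩ c).card = 3 := by
  have e0 := sum_interCount hB hb (j := 0) (l := 253) (by norm_num) (by rw [hα]; decide) (by decide)
  have e1 := sum_interCount hB hb (j := 1) (l := 77) (by norm_num) (by rw [hα]; decide) (by decide)
  have e2 := sum_interCount hB hb (j := 2) (l := 21) (by norm_num) (by rw [hα]; decide) (by decide)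
  have e3 := sum_interCount hB hb (j := 3) (l := 5) (by norm_num) (by rw [hα]; decide) (by decide)
  simp only [Finset.sum_range_succ, Finset.sum_range_zero, Nat.choose] at e0 e1 e2 e3
  have hlt := block_card_inter_lt hB hb hc hbc
  have hp := interCount_pos (B := B) hc hbc
  interval_cases h : (b ∩ c).card <;> omega

theorem inter_3_6_22 (hα : Fintype.card α = 22) {B : Set (Finset α)}
    (hB : Cfsg.IsSteinerSystem 3 6 B) {b c : Finset α} (hb : b ∈ B) (hc : c ∈ B) (hbc : b ≠ c) :
    (b ∩ c).card = 0 ∨ (b ∩ c).card = 2 := by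
  have e0 := sum_interCount hB hb (j := 0) (l := 77) (by norm_num) (by rw [hα]; decide) (by decide)
  have e1 := sum_interCount hB hb (j := 1) (l := 21) (by norm_num) (by rw [hα]; decide) (by decide)
  have e2 := sum_interCount hB hb (j := 2) (l := 5) (by norm_num) (by rw [hα]; decide) (by decide)
  simp only [Finset.sum_range_succ, Finset.sum_range_zero, Nat.choose] at e0 e1 e2
  have hlt := block_card_inter_lt hB hb hc hbc
  have hp := interCount_pos (B := B) hc hbc
  interval_cases h : (b ∩ c).card <;> omega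

theorem disjoint_5_8_24 (hα : Fintype.card α = 24) {B : Set (Finset α)}
    (hB : Cfsg.IsSteinerSystem 5 8 B) {b : Finset α} (hb : b ∈ B) :
    {c : Finset α | c ∈ B ∧ Disjoint b c}.ncard = 30 := by
  rw [← (interCount_5_8_24 hα hB hb).1, ncard_blocks, interCount]
  congr 1
  ext c
  simp only [Finset.mem_filter, Finset.mem_erase, Finset.card_eq_zero,
    ← Finset.disjoint_iff_inter_eq_empty]
  refine ⟨fun h => ⟨⟨?_, h.1⟩, h.2⟩, fun h => ⟨h.1.2, h.2⟩⟩
  rintro rfl
  have := hB.1 c hb
  rw [disjoint_self, Finset.bot_eq_empty] at h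
  simp [h.2] at this

theorem compl_5_6_12 (hα : Fintype.card α = 12) {B : Set (Finset α)}
    (hB : Cfsg.IsSteinerSystem 5 6 B) {b : Finset α} (hb : b ∈ B) : bᶜ ∈ B := by
  have e0 := sum_interCount hB hb (j := 0) (l := 132) (by norm_num) (by rw [hα]; decide) (by decide)
  have e1 := sum_interCount hB hb (j := 1) (l := 66) (by norm_num) (by rw [hα]; decide) (by decide)
  have e2 := sum_interCount hB hb (j := 2) (l := 30) (by norm_num) (by rw [hα]; decide) (by decide)
  have e3 := sum_interCount hB hb (j := 3) (l := 12) (by norm_num) (by rw [hα]; decide) (by decide)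
  have e4 := sum_interCount hB hb (j := 4) (l := 4) (by norm_num) (by rw [hα]; decide) (by decide)
  simp only [Finset.sum_range_succ, Finset.sum_range_zero, Nat.choose] at e0 e1 e2 e3 e4
  have h0 : 0 < interCount B b 0 := by omega
  obtain ⟨c, hc⟩ := Finset.card_pos.mp h0
  simp only [Finset.mem_filter, Finset.mem_erase] at hc
  have he : c = bᶜ := by
    refine Finset.eq_of_subset_of_card_le (fun x hx => Finset.mem_compl.mpr fun hxb => ?_) ?_
    · have := Finset.card_pos.mpr ⟨x, Finset.mem_inter.mpr ⟨hxb, hx⟩⟩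
      omega
    · rw [Finset.card_compl, hα, hB.1 b hb, hB.1 c (mem_blocks.mp hc.1.2)]
  rw [← he]
  exact mem_blocks.mp hc.1.2

theorem symmDiff_5_8_24 (hα : Fintype.card α = 24) {B : Set (Finset α)}
    (hB : Cfsg.IsSteinerSystem 5 8 B) {b c : Finset α} (hb : b ∈ B) (hc : c ∈ B)
    (h4 : (b ∩ c).card = 4) : b ∆ c ∈ B := by
  by_contra hD
  have hcardD : (b ∆ c).card = 8 := by
    have h1 : b ∆ c = (b \ c) ∪ (c \ b) := rfl
    rw [h1, Finset.card_union_of_disjoint disjoint_sdiff_sdiff]
    have h2 := Finset.card_sdiff_add_card_inter b c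
    have h3 := Finset.card_sdiff_add_card_inter c b
    rw [Finset.inter_comm c b] at h3
    have := hB.1 b hb
    have := hB.1 c hc
    omega
  have heven : ∀ d ∈ blocks B, 6 ∣ ((b ∆ c) ∩ d).card.choose 5 := by
    intro d hd
    rw [mem_blocks] at hd
    have hpar : ∀ u v : Finset α, u ∈ B → v ∈ B → Even (u ∩ v).card := by
      intro u v hu hv
      by_cases h : u = v
      · subst h; rw [Finset.inter_self, hB.1 u hu]; decide
      · rcases inter_5_8_24 hα hB hu hv h with e | e | e <;> rw [e] <;> decide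
    have hsum : ((b ∆ c) ∩ d).card + 2 * (b ∩ c ∩ d).card = (b ∩ d).card + (c ∩ d).card := by
      rw [← Finset.card_union_add_card_inter (b ∩ d) (c ∩ d)]
      have e : b ∩ d ∪ c ∩ d = ((b ∆ c) ∩ d) ∪ (b ∩ c ∩ d) := by
        ext x
        simp only [Finset.mem_union, Finset.mem_inter, Finset.mem_symmDiff]
        tauto
      have e' : b ∩ d ∩ (c ∩ d) = b ∩ c ∩ d := by
        ext x; simp only [Finset.mem_inter]; tauto
      rw [e, e', Finset.card_union_of_disjoint]
      · omega
      · rw [Finset.disjoint_left]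
        intro x h1 h2
        simp only [Finset.mem_inter, Finset.mem_symmDiff] at h1 h2
        tauto
    obtain ⟨p, hp⟩ := hpar b d hb hd
    obtain ⟨q, hq⟩ := hpar c d hc hd
    have hle : ((b ∆ c) ∩ d).card ≤ 8 := hcardD ▸ Finset.card_le_card Finset.inter_subset_left
    have hne : ((b ∆ c) ∩ d).card ≠ 8 := by
      intro h
      refine hD ?_
      have h1 : (b ∆ c) ∩ d = b ∆ c :=
        Finset.eq_of_subset_of_card_le Finset.inter_subset_left (by omega)
      have h2 : b ∆ c = d :=
        Finset.eq_of_subset_of_card_le (Finset.inter_eq_left.mp h1) (by rw [hB.1 d hd, hcardD])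
      rw [h2]; exact hd
    interval_cases h : ((b ∆ c) ∩ d).card <;> first | omega | decide
  have := sum_choose_inter hB (b ∆ c) (j := 5) (l := 1) le_rfl (by rw [hα]; decide) (by decide)
  rw [hcardD] at this
  have h6 := Finset.dvd_sum heven
  rw [this] at h6
  revert h6
  decide

theorem derived {t k : ℕ} {B : Set (Finset α)} (hB : Cfsg.IsSteinerSystem (t + 1) (k + 1) B)
    (p : α) : Cfsg.IsSteinerSystem t k {b' : Finset {a : α // a ≠ p} |
      ∃ b ∈ B, p ∈ b ∧ b' = Finset.subtype (fun a => a ≠ p) b} := by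
  refine ⟨?_, ?_⟩
  · rintro _ ⟨b, hb, hp, rfl⟩
    rw [Finset.card_subtype, Finset.filter_ne', Finset.card_erase_of_mem hp, hB.1 b hb]
    rfl
  · intro s hs
    set T := insert p (s.map (Function.Embedding.subtype fun a => a ≠ p)) with hT
    have hpn : p ∉ s.map (Function.Embedding.subtype fun a => a ≠ p) := by
      simp [Finset.mem_map]
    have hTc : T.card = t + 1 := by
      rw [hT, Finset.card_insert_of_notMem hpn, Finset.card_map, hs]
    have key : ∀ b : Finset α,
        (p ∈ b ∧ s ⊆ Finset.subtype (fun a => a ≠ p) b) ↔ T ⊆ b := by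
      intro b
      rw [hT, Finset.insert_subset_iff, Finset.map_subset_iff_subset_preimage]
      refine and_congr_right fun _ => ?_
      simp [Finset.subset_iff]
    obtain ⟨b, ⟨hb, hTb⟩, hu⟩ := hB.2 T hTc
    obtain ⟨hpb, hsb⟩ := (key b).mpr hTb
    refine ⟨_, ⟨⟨b, hb, hpb, rfl⟩, hsb⟩, ?_⟩
    rintro _ ⟨⟨c, hc, hpc, rfl⟩, hsc⟩
    rw [hu c ⟨hc, (key c).mp ⟨hpc, hsc⟩⟩]

theorem block_count {t k : ℕ} {B : Set (Finset α)} (hB : Cfsg.IsSteinerSystem t k B) :
    B.ncard * Nat.choose k t = Nat.choose (Fintype.card α) t := by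
  have h := blocks_through t k hB ∅ (Nat.zero_le t)
  simpa [blocks, Set.ncard_eq_toFinset_card B (Set.toFinite B)] using h

end Cfsg.Agent.SteinerInter
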