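import Mathlib
import Cfsg.Prelude.Def_Sporadic_a

/-! Counting blocks through a given set in a Steiner system. -/

set_option autoImplicit false

namespace Cfsg.Agent.SteinerCount

open Finset

variable {α : Type*} [Fintype α] [DecidableEq α]

/-- The blocks as a finite set. -/
noncomputable def blocks (B : Set (Finset α)) : Finset (Finset α) :=
  (Set.toFinite B).toFinset

theorem mem_blocks {B : Set (Finset α)} {b : Finset α} : b ∈ blocks B ↔ b ∈ B :=
  Set.Finite.mem_toFinset _

theorem card_supersets (U s : Finset α) (hs : s ⊆ U) (n : ℕ) (hn : s.card ≤ n) :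
    ((U.powersetCard n).filter (fun T => s ⊆ T)).card = (U.card - s.card).choose (n - s.card) := by
  rw [← Finset.card_sdiff_of_subset hs, ← Finset.card_powersetCard]
  refine Finset.card_bij' (fun T _ => T \ s) (fun R _ => R ∪ s) ?_ ?_ ?_ ?_
  · intro T hT
    rw [Finset.mem_filter, Finset.mem_powersetCard] at hT
    rw [Finset.mem_powersetCard, Finset.card_sdiff_of_subset hT.2, hT.1.2]
    exact ⟨Finset.sdiff_subset_sdiff hT.1.1 le_rfl, rfl⟩
  · intro R hR
    rw [Finset.mem_powersetCard] at hR
    have hd : Disjoint R s := Finset.disjoint_of_subset_left hR.1 Finset.sdiff_disjoint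
    rw [Finset.mem_filter, Finset.mem_powersetCard, Finset.card_union_of_disjoint hd]
    exact ⟨⟨Finset.union_subset (hR.1.trans Finset.sdiff_subset) hs, by omega⟩,
      Finset.subset_union_right⟩
  · intro T hT
    rw [Finset.mem_filter] at hT
    exact Finset.sdiff_union_of_subset hT.2
  · intro R hR
    rw [Finset.mem_powersetCard] at hR
    exact Finset.union_sdiff_cancel_right
      (Finset.disjoint_of_subset_left hR.1 Finset.sdiff_disjoint)

theorem blocks_through (t k : ℕ) {B : Set (Finset α)} (hB : Cfsg.IsSteinerSystem t k B)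
    (s : Finset α) (hs : s.card ≤ t) :
    ((blocks B).filter (fun b => s ⊆ b)).card * (k - s.card).choose (t - s.card) =
      (Fintype.card α - s.card).choose (t - s.card) := by
  classical
  rw [← Finset.card_univ, ← card_supersets Finset.univ s (Finset.subset_univ s) t hs]
  set F := (blocks B).filter (fun b => s ⊆ b) with hF
  set P := ((Finset.univ : Finset α).powersetCard t).filter (fun T => s ⊆ T) with hP
  have hsum : ∑ b ∈ F, (P.filter (fun T => T ⊆ b)).card = P.card := by
    rw [← Finset.card_biUnion]
    · congr 1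
      ext T
      simp only [Finset.mem_biUnion, Finset.mem_filter]
      refine ⟨fun ⟨b, _, h, _⟩ => h, fun hT => ?_⟩
      obtain ⟨hTc, hsT⟩ := Finset.mem_filter.mp hT
      obtain ⟨b, ⟨hb, hTb⟩, -⟩ := hB.2 T (Finset.mem_powersetCard.mp hTc).2
      exact ⟨b, Finset.mem_filter.mpr ⟨mem_blocks.mpr hb, hsT.trans hTb⟩, hT, hTb⟩
    · intro b hb c hc hne
      rw [Function.onFun, Finset.disjoint_left]
      intro T h1 h2
      obtain ⟨hTP, hTb⟩ := Finset.mem_filter.mp h1
      obtain ⟨-, hTc⟩ := Finset.mem_filter.mp h2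
      obtain ⟨d, -, hu⟩ := hB.2 T (Finset.mem_powersetCard.mp (Finset.mem_filter.mp hTP).1).2
      exact hne ((hu b ⟨mem_blocks.mp (Finset.mem_filter.mp hb).1, hTb⟩).trans
        (hu c ⟨mem_blocks.mp (Finset.mem_filter.mp hc).1, hTc⟩).symm)
  rw [← hsum, Finset.sum_congr rfl (g := fun _ => (k - s.card).choose (t - s.card)),
    Finset.sum_const, smul_eq_mul]
  intro b hb
  obtain ⟨hbB, hsb⟩ := Finset.mem_filter.mp hb
  rw [← hB.1 b (mem_blocks.mp hbB), ← card_supersets b s hsb t hs]
  congr 1
  ext T
  simp only [hP, Finset.mem_filter, Finset.mem_powersetCard, Finset.subset_univ, true_and]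
  tauto

theorem ncard_blocks (B : Set (Finset α)) (p : Finset α → Prop) [DecidablePred p] :
    {b : Finset α | b ∈ B ∧ p b}.ncard = ((blocks B).filter p).card := by
  rw [← Set.ncard_coe_finset]
  congr 1
  ext b
  simp [mem_blocks]

end Cfsg.Agent.SteinerCount
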